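import Mathlib
import Groth.Agent.Lib.Helper9.UnipFil.Basic
import Groth.Agent.Lib.Helper9.ComodFlag
import Groth.Agent.Lib.Helper9.ComodChevalley

/-!
# Trigonalizable Hopf algebras: characterisation by products of functionals (helper9)

`A` is trigonalizable iff every `a : A` is killed by all sufficiently long convolution products of
functionals vanishing on all group-like elements.
-/

set_option autoImplicit false

universe u v w w'

open TensorProduct WithConv

namespace Groth.Agent.H9.TrigFil

open Groth.Agent.H9 Groth.Agent.H9.UnipLie Groth.Agent.H9.UnipFil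

section Defs

variable (k : Type u) [Field k] {A : Type v} [CommRing A] [Bialgebra k A]

/-- a functional vanishing on all group-like elements -/
def VanG {S : Type w} [CommRing S] [Algebra k S] (θ : WithConv (A →ₗ[k] S)) : Prop :=
  ∀ χ : A, IsGroupLikeElem k χ → θ.ofConv χ = 0

/-- `a` is killed by all products of `m` functionals (with values in `S`) vanishing on the
group-like elements -/
def KillsLenG (S : Type w) [CommRing S] [Algebra k S] (m : ℕ) (a : A) : Prop :=
  ∀ l : List (WithConv (A →ₗ[k] S)), l.length = m → (∀ θ ∈ l, VanG k θ) → l.prod.ofConv a = 0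

/-- `a` is killed by all products of at least `n` functionals vanishing on group-likes -/
def KillsG (n : ℕ) (a : A) : Prop := ∀ m, n ≤ m → KillsLenG k k m a

variable {k}

lemma VanG.mul_right {θ : WithConv (A →ₗ[k] k)} (hθ : VanG k θ) (φ : WithConv (A →ₗ[k] k)) :
    VanG k (θ * φ) := by
  intro χ hχ
  rw [LinearMap.convMul_apply, hχ.comul_eq_tmul_self, TensorProduct.map_tmul,
    LinearMap.mul'_apply, hθ χ hχ, zero_mul]

lemma VanG.mul_left {θ : WithConv (A →ₗ[k] k)} (hθ : VanG k θ) (φ : WithConv (A →ₗ[k] k)) :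
    VanG k (φ * θ) := by
  intro χ hχ
  rw [LinearMap.convMul_apply, hχ.comul_eq_tmul_self, TensorProduct.map_tmul,
    LinearMap.mul'_apply, hθ χ hχ, mul_zero]

end Defs

section Forward

variable {k : Type u} [Field k] {A : Type v} [CommRing A] [Bialgebra k A]

/-- step relation for flags: functionals vanishing on group-likes lower the flag -/
def GStep (X : Type w) [AddCommGroup X] [Module k X] (c : HopfRep.Comod k A X)
    (U U' : Submodule k X) : Prop :=
  ∀ θ : WithConv (A →ₗ[k] k), VanG k θ → ∀ v ∈ U', Comod.slice θ.ofConv (c.coact v) ∈ U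

lemma gStep_top (X : Type w) [AddCommGroup X] [Module k X] (c : HopfRep.Comod k A X) :
    GStep X c ⊤ ⊤ := fun _ _ _ _ => trivial

lemma gStep_pull (X : Type w) [AddCommGroup X] [Module k X] (c : HopfRep.Comod k A X)
    (L : Submodule k X) (hL : @HopfRep.IsSubcomod k A _ _ _ _ X _ _ c L)
    (U U' : Submodule k (X ⧸ L)) (h : GStep (X ⧸ L) (ComodSub.Comod.quot c L hL) U U') :
    GStep X c (U.comap L.mkQ) (U'.comap L.mkQ) := by
  intro θ hθ v hv
  rw [Submodule.mem_comap, ← Comod.slice_rTensor]
  exact h θ hθ (L.mkQ v) hv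

lemma exists_line_of_trig (hT : HopfRep.IsTrigonalizable k A) (X : Type v) [AddCommGroup X]
    [Module k X] (c : HopfRep.Comod k A X) (hfin : Module.Finite k X) (hnt : Nontrivial X) :
    ∃ L : Submodule k X, @HopfRep.IsSubcomod k A _ _ _ _ X _ _ c L ∧ Module.finrank k L = 1 ∧
      GStep X c ⊥ L := by
  let _ := c
  obtain ⟨S, -, hS⟩ := Comod.exists_simpleSub_le (A := A) (⊤ : Submodule k X)
    Comod.isSubcomod_top top_ne_bot
  have h1 : Module.finrank k S = 1 :=
    @hT S _ _ (ComodSub.Comod.restr c S hS.1) inferInstance hS.isSimpleComod_restr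
  refine ⟨S, hS.1, h1, ?_⟩
  obtain ⟨v₀, hv₀⟩ := finrank_eq_one_iff'.mp h1
  have hv₀0 : (v₀ : X) ≠ 0 := fun h => hv₀.1 (Subtype.ext h)
  have hspan : S = Submodule.span k {(v₀ : X)} := by
    apply le_antisymm
    · intro w hw
      obtain ⟨a, ha⟩ := hv₀.2 ⟨w, hw⟩
      rw [Submodule.mem_span_singleton]
      exact ⟨a, congrArg Subtype.val ha⟩
    · rw [Submodule.span_le, Set.singleton_subset_iff]
      exact v₀.2
  have h2 : c.coact (v₀ : X) ∈ LinearMap.range ((Submodule.span k {(v₀ : X)}).subtype.rTensor A) := by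
    rw [← hspan]
    exact hS.1 v₀ v₀.2
  obtain ⟨χ, hχ⟩ := Chevalley.exists_eq_tmul_of_mem_range_span_singleton (v₀ : X) _ h2
  have hχg : IsGroupLikeElem k χ := by
    apply Chevalley.isGroupLikeElem_of_eigen (BialgHom.id k A) c hv₀0 (χ := χ)
    rw [← hχ]
    show (LinearMap.id : A →ₗ[k] A).lTensor X (c.coact (v₀ : X)) = _
    rw [LinearMap.lTensor_id, LinearMap.id_apply]
  intro θ hθ v hv
  rw [hspan, Submodule.mem_span_singleton] at hv
  obtain ⟨a, rfl⟩ := hv
  rw [map_smul, map_smul, hχ, Comod.slice_tmul, hθ χ hχg, zero_smul, smul_zero]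
  exact zero_mem _

theorem exists_gflag (hT : HopfRep.IsTrigonalizable k A) (V : Type v) [AddCommGroup V]
    [Module k V] [c : HopfRep.Comod k A V] [Module.Finite k V] :
    ∃ F : ℕ → Submodule k V, Monotone F ∧
      (∀ i, HopfRep.IsSubcomod (k := k) (A := A) (F i)) ∧
      (∀ i, i ≤ Module.finrank k V → Module.finrank k (F i) = i) ∧
      (∀ i, Module.finrank k V ≤ i → F i = ⊤) ∧
      ∀ i, GStep V c (F i) (F (i + 1)) := by
  exact Comod.exists_flag (k := k) (A := A) (fun X _ _ c => GStep X c) gStep_top gStep_pull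
    (fun X _ _ c hfin hnt => exists_line_of_trig hT X c hfin hnt)
    (Module.finrank k V) V c rfl

/-- on a finite-dimensional comodule of a trigonalizable group, long products of functionals
vanishing on the group-likes act as zero -/
theorem slice_prod_eq_zero (hT : HopfRep.IsTrigonalizable k A) (W : Type v) [AddCommGroup W]
    [Module k W] [c : HopfRep.Comod k A W] [Module.Finite k W] (l : List (WithConv (A →ₗ[k] k)))
    (hl : ∀ θ ∈ l, VanG k θ) (hn : Module.finrank k W ≤ l.length) (w : W) :
    Comod.slice l.prod.ofConv (c.coact w) = 0 := by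
  obtain ⟨F, hmono, -, hrank, htop, hstep⟩ := exists_gflag (c := c) hT W
  have h0 : F 0 = ⊥ := Submodule.finrank_eq_zero.mp (hrank 0 (Nat.zero_le _))
  have hstep' : ∀ (θ : WithConv (A →ₗ[k] k)), VanG k θ → ∀ i, ∀ w ∈ F i,
      Comod.slice θ.ofConv (c.coact w) ∈ F (i - 1) := by
    intro θ hθ i w hw
    rcases i with _ | i
    · rw [h0, Submodule.mem_bot] at hw
      rw [hw, map_zero, map_zero]
      exact zero_mem _
    · exact hstep i θ hθ w hw
  have key : ∀ l : List (WithConv (A →ₗ[k] k)), (∀ θ ∈ l, VanG k θ) → ∀ i, ∀ w ∈ F i,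
      Comod.slice l.prod.ofConv (c.coact w) ∈ F (i - l.length) := by
    intro l
    induction l with
    | nil =>
      intro _ i w hw
      rw [List.prod_nil, List.length_nil, Nat.sub_zero]
      have := slice_one_coact (k := k) (A := A) w
      rw [show Comod.coact (A := A) w = c.coact w from rfl] at this
      rw [this]
      exact hw
    | cons θ l ih =>
      intro hl i w hw
      have h1 := slice_prod_cons θ l w
      rw [show Comod.coact (A := A) w = c.coact w from rfl] at h1
      rw [h1, List.length_cons]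
      have h2 := ih (fun θ' hθ' => hl θ' (List.mem_cons_of_mem _ hθ')) i w hw
      have h3 := hstep' θ (hl θ List.mem_cons_self) _ _ h2
      rw [Nat.sub_sub] at h3
      exact h3
  have h1 := key l hl (Module.finrank k W) w (by rw [htop _ le_rfl]; trivial)
  rw [Nat.sub_eq_zero_of_le hn, h0, Submodule.mem_bot] at h1
  exact h1

/-- in a trigonalizable Hopf algebra every element is killed by long products -/
theorem exists_killsG (hT : HopfRep.IsTrigonalizable k A) (a : A) : ∃ n : ℕ, KillsG k n a := by
  let cA : HopfRep.Comod k A A := HopfRep.Comod.regular k A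
  obtain ⟨W, hfin, hv, hW⟩ := Comod.exists_finite_subcomod_mem (k := k) (A := A) (V := A) a
  refine ⟨Module.finrank k W, fun m hm l hlen hl => ?_⟩
  let cW : HopfRep.Comod k A W := ComodSub.Comod.restr cA W hW
  have h1 := slice_prod_eq_zero hT W l hl (by rw [hlen]; exact hm) ⟨a, hv⟩
  have h2 : Comod.slice l.prod.ofConv (cA.coact a) = 0 := by
    have h3 := ComodSub.restr_coact_coe cA W hW ⟨a, hv⟩
    rw [show ((⟨a, hv⟩ : W) : A) = a from rfl] at h3
    rw [← h3, Comod.slice_rTensor, h1, map_zero]
  rw [apply_eq_counit_slice]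
  have : cA.coact a = CoalgebraStruct.comul (R := k) a := rfl
  rw [← this, h2, map_zero]

end Forward

end Groth.Agent.H9.TrigFil
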